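import Groth.Agent.Lib.Helper19.FldSp.GeomFibre
import Groth.Agent.Lib.Helper14.FibreChart

/-!
# Dimension of a fibre of a morphism of algebraic spaces and relative dimension
-/

set_option autoImplicit false
set_option linter.style.haveILetI false
universe u
open CategoryTheory CategoryTheory.Limits AlgebraicGeometry MorphismProperty TopologicalSpace
open AlgSp Groth.Agent.Helper15 Groth.Agent.Helper16.AS

namespace Groth.Agent.Helper19.FldSp

/-- over the spectrum of a field the local fibre dimension is the local dimension -/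
theorem fibreDimAt_eq_localDim_of_field {K : Type u} [Field K] {W : Scheme.{u}}
    (h : W ⟶ Spec (CommRingCat.of K)) (w : W) :
    FlatMor.fibreDimAt h w = FlatMor.localDim W w := by
  have hrange : Set.range (h.fiberι (h w)) = Set.univ := by
    rw [Scheme.Hom.range_fiberι]
    ext z
    simp only [Set.mem_preimage, Set.mem_singleton_iff, Set.mem_univ, iff_true]
    exact Subsingleton.elim (α := PrimeSpectrum K) _ _
  have hopen : Topology.IsOpenEmbedding (h.fiberι (h w)) :=
    ⟨(h.fiberι (h w)).isEmbedding, by rw [hrange]; exact isOpen_univ⟩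
  have := Groth.Agent.Helper14.FibreChart.localDim_openEmbedding _ hopen (h.asFiber w)
  rw [Scheme.Hom.fiberι_asFiber] at this
  exact this.symm

variable {S : Scheme.{u}}

theorem map_toHom_eq {Y : Sp S} (k : FieldPt Y) (p : Points ((yon S).obj k.pt)) :
    Points.map k.toHom p = Points.mk k := by
  obtain ⟨s, rfl⟩ := (Points.schemeEquiv k.pt).surjective p
  have := Points.ofPt_eq_map_ofScheme k.toHom s
  rw [Points.ofPt_toHom] at this
  exact this.symm

/-- the dimension of a fibre and the relative dimension at the points over its image -/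
theorem dim_fibre {X Y : Sp S} (hX : IsAlgSpace X) (hY : IsAlgSpace Y) (f : X ⟶ Y)
    (hf : LocP @LocallyOfFiniteType f) (y : Points Y) (k : FieldPt Y) (hk : Points.mk k = y)
    (Xk : Sp S) (fst : Xk ⟶ X) (snd : Xk ⟶ (yon S).obj k.pt)
    (hsq : IsPullback fst snd f k.toHom) :
    (AlgSp.dim Xk = ⊥ ↔ y ∉ Set.range (Points.map f)) ∧
      ∀ d : ℕ, (AlgSp.dim Xk ≤ d ↔
        ∀ x : Points X, Points.map f x = y →
          HasAtMor (fun _ _ h u => FlatMor.fibreDimAt h u ≤ (d : WithBot ℕ∞)) f x) := by
  have hT : IsAlgSpace ((yon S).obj k.pt) := IsAlgSpace.yon_obj _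
  have hXk : IsAlgSpace Xk := isAlgSpace_of_isPullback hY.diag hX hT hsq
  have hlft : LocP @LocallyOfFiniteType snd :=
    locP_of_isPullback goodP_lft srcEtLoc_lft hX hY hT hsq hf
  -- points of the fibre lie over `y`
  have hover : ∀ x' : Points Xk, Points.map f (Points.map fst x') = y := by
    intro x'
    rw [← Points.map_comp, hsq.w, Points.map_comp, map_toHom_eq, hk]
  -- points over `y` lift to the fibre
  have hlift : ∀ x : Points X, Points.map f x = y → ∃ x' : Points Xk, Points.map fst x' = x := by
    intro x hx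
    let pt : k.pt.left := IsLocalRing.closedPoint k.K
    have heq : Points.map f x = Points.map k.toHom (Points.ofScheme k.pt pt) := by
      rw [hx, map_toHom_eq, hk]
    obtain ⟨x', hx1, -⟩ := exists_point_of_isPullback hsq x _ heq
    exact ⟨x', hx1⟩
  -- charts of the fibre
  have hchart : ∀ {W : Over S} (a : (yon S).obj W ⟶ Xk) (ha : RepWith @Etale a) (w : W.left)
      (R : WithBot ℕ∞ → Prop),
      HasAtMor (fun _ _ h u => R (FlatMor.fibreDimAt h u)) snd (Points.ofPt a w) ↔
        R (FlatMor.localDim W.left w) := by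
    intro W a ha w R
    let h : W ⟶ k.pt := (yon S).preimage (a ≫ snd)
    have comm : a ≫ snd = (yon S).map h ≫ 𝟙 _ := by simp [h]
    rw [Groth.Agent.Helper19.RelDim.hasAtMor_fibreDimAt_iff snd hlft R a (𝟙 _) h ha
      (repWith_id _ _) comm w]
    have e : FlatMor.fibreDimAt h.left w = FlatMor.localDim W.left w :=
      fibreDimAt_eq_localDim_of_field (K := k.K) h.left w
    rw [e]
  -- transfer between `f` and `snd`
  have htrans : ∀ (x' : Points Xk) (R : WithBot ℕ∞ → Prop),
      HasAtMor (fun _ _ h u => R (FlatMor.fibreDimAt h u)) f (Points.map fst x') ↔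
        HasAtMor (fun _ _ h u => R (FlatMor.fibreDimAt h u)) snd x' := by
    intro x' R
    constructor
    · exact Groth.Agent.Helper19.RelDim.hasAtMor_baseChange hX hY hT f k.toHom fst snd hsq hf x' R
    · intro hs
      obtain ⟨U₁, V₁, a₁, b₁, h₁, u₁, ha₁, hb₁, comm₁, hxu₁, -⟩ :=
        Trdeg.exists_chart_at hX hY f hf (Points.map fst x')
      have hfd : HasAtMor (fun _ _ h u => FlatMor.fibreDimAt h u = FlatMor.fibreDimAt h₁.left u₁) f
          (Points.map fst x') := ⟨U₁, V₁, a₁, b₁, h₁, u₁, ha₁, hb₁, comm₁, hxu₁, rfl⟩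
      have hsd := Groth.Agent.Helper19.RelDim.hasAtMor_baseChange hX hY hT f k.toHom fst snd hsq
        hf x' (fun t => t = FlatMor.fibreDimAt h₁.left u₁) hfd
      obtain ⟨W, a, hae, has⟩ := hXk.atlas
      obtain ⟨w, hw⟩ := surjective_ofPt a has x'
      rw [← hw] at hsd hs
      have e1 := (hchart a hae w (fun t => t = FlatMor.fibreDimAt h₁.left u₁)).1 hsd
      have e2 := (hchart a hae w R).1 hs
      have e1' : FlatMor.localDim W.left w = FlatMor.fibreDimAt h₁.left u₁ := e1
      rw [e1'] at e2
      exact ⟨U₁, V₁, a₁, b₁, h₁, u₁, ha₁, hb₁, comm₁, hxu₁, e2⟩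
  constructor
  · constructor
    · rintro hbot ⟨x, hx⟩
      obtain ⟨x', -⟩ := hlift x hx
      obtain ⟨W, a, hae, has⟩ := hXk.atlas
      obtain ⟨w, -⟩ := surjective_ofPt a has x'
      haveI : Nonempty W.left := ⟨w⟩
      have h1 : (0 : WithBot ℕ∞) ≤ AlgSp.dim Xk :=
        (topDim_nonneg_of_nonempty W.left).trans
          (le_iSup_of_le W (le_iSup_of_le a (le_iSup_of_le hae le_rfl)))
      rw [hbot] at h1
      exact absurd h1 (by decide)
    · intro hy
      rw [eq_bot_iff]
      refine iSup_le (fun W => iSup_le (fun a => iSup_le (fun ha => ?_)))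
      rw [Groth.Agent.S5792.result]
      refine iSup_le (fun w => ?_)
      exact absurd ⟨Points.map fst (Points.ofPt a w), hover _⟩ hy
  · intro d
    constructor
    · intro hd x hx
      obtain ⟨x', rfl⟩ := hlift x hx
      rw [htrans x' (fun t => t ≤ (d : WithBot ℕ∞))]
      obtain ⟨W, a, hae, has⟩ := hXk.atlas
      obtain ⟨w, rfl⟩ := surjective_ofPt a has x'
      rw [hchart a hae w (fun t => t ≤ (d : WithBot ℕ∞))]
      refine (Groth.Agent.Helper14.FibreGeneric.localDim_le_dim w).trans (le_trans ?_ hd)
      exact le_iSup_of_le W (le_iSup_of_le a (le_iSup_of_le hae le_rfl))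
    · intro H
      refine iSup_le (fun W => iSup_le (fun a => iSup_le (fun ha => ?_)))
      rw [Groth.Agent.S5792.result]
      refine iSup_le (fun w => ?_)
      have h1 := H (Points.map fst (Points.ofPt a w)) (hover _)
      rw [htrans _ (fun t => t ≤ (d : WithBot ℕ∞)),
        hchart a ha w (fun t => t ≤ (d : WithBot ℕ∞))] at h1
      exact h1

end Groth.Agent.Helper19.FldSp
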