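import Groth.Agent.Lib.Helper19.FldSp.Points
import Groth.Agent.Lib.Helper14.FibreGeneric
import Groth.Agent.Lib.Helper15.AlgSpDecent2
import Groth.Agent.S5792

/-!
# Algebraic spaces locally of finite type over a field with discrete space of points
-/

set_option autoImplicit false
set_option linter.style.haveILetI false
universe u
open CategoryTheory CategoryTheory.Limits AlgebraicGeometry MorphismProperty TopologicalSpace
open AlgSp Groth.Agent.Helper15

namespace Groth.Agent.Helper19.FldSp

open Groth.Agent.Helper14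

theorem topDim_nonneg_of_nonempty (T : Type u) [TopologicalSpace T] [Nonempty T] :
    0 ≤ topologicalKrullDim T := by
  obtain ⟨t⟩ := ‹Nonempty T›
  exact (FibreGeneric.zero_le_localDim t).trans (FibreGeneric.localDim_le_dim t)

theorem topDim_le_zero_of_forall_isOpen_singleton (T : Type u) [TopologicalSpace T]
    (h : ∀ t : T, IsOpen ({t} : Set T)) : topologicalKrullDim T ≤ 0 := by
  rw [Groth.Agent.S5792.result]
  exact iSup_le (fun t => (FibDim.localDim_eq_zero_of_isOpen_singleton t (h t)).le)

variable {k : Type u} [Field k] {X : Sp (Spec (CommRingCat.of k))}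
  (p : X ⟶ (yon (Spec (CommRingCat.of k))).obj (Over.mk (𝟙 _)))
  (hp : LocP @LocallyOfFiniteType p) (hXa : IsAlgSpace X)
include p hp hXa

/-- if all points of all étale charts are open, `dim X = 0` -/
theorem dim_eq_zero_of_charts_discrete [Nonempty (Points X)]
    (h : ∀ (U : Over (Spec (CommRingCat.of k)))
      (a : (yon (Spec (CommRingCat.of k))).obj U ⟶ X), RepWith @Etale a → ∀ u : U.left,
        IsOpen ({u} : Set U.left)) : AlgSp.dim X = 0 := by
  apply le_antisymm
  · refine iSup_le (fun U => iSup_le (fun a => iSup_le (fun ha => ?_)))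
    exact topDim_le_zero_of_forall_isOpen_singleton _ (h U a ha)
  · obtain ⟨U, a, hae, has⟩ := hXa.atlas
    obtain ⟨x⟩ := ‹Nonempty (Points X)›
    obtain ⟨u, -⟩ := surjective_ofPt a has x
    haveI : Nonempty U.left := ⟨u⟩
    exact (topDim_nonneg_of_nonempty U.left).trans
      (le_iSup_of_le U (le_iSup_of_le a (le_iSup_of_le hae le_rfl)))

/-- (2) ⇔ (4) -/
theorem discrete_iff_dim_eq_zero [Nonempty (Points X)] :
    DiscreteTopology (Points X) ↔ AlgSp.dim X = 0 := by
  constructor
  · intro hd
    refine dim_eq_zero_of_charts_discrete p hp hXa (fun U a ha u => ?_)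
    exact (isOpen_isClosed_chart_of_isOpen p hp (Points.ofPt a u) (isOpen_discrete _) a ha u rfl).1
  · intro h0
    rw [discreteTopology_iff_isOpen_singleton]
    intro x
    rw [isOpen_singleton_iff_hasAt_localDim p hp hXa x]
    obtain ⟨U, a, hae, has⟩ := hXa.atlas
    obtain ⟨u, hu⟩ := surjective_ofPt a has x
    refine ⟨U, a, u, hae, hu, le_antisymm ?_ (FibreGeneric.zero_le_localDim u)⟩
    refine (FibreGeneric.localDim_le_dim u).trans ?_
    rw [← h0]
    exact le_iSup_of_le U (le_iSup_of_le a (le_iSup_of_le hae le_rfl))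

omit p hp hXa in
/-- (2) ⇒ (3) -/
theorem topDim_eq_zero_of_discrete [Nonempty (Points X)] [DiscreteTopology (Points X)] :
    topologicalKrullDim (Points X) = 0 :=
  le_antisymm (topologicalKrullDim_zero_of_discreteTopology _) (topDim_nonneg_of_nonempty _)

/-- (3) ⇒ (2) for decent spaces -/
theorem discrete_of_topDim_eq_zero (hX : IsDecent X)
    (h0 : topologicalKrullDim (Points X) = 0) : DiscreteTopology (Points X) := by
  rw [discreteTopology_iff_isOpen_singleton]
  intro x
  rw [← localDim_points_eq_zero_iff p hp hXa hX x]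
  exact le_antisymm ((FibreGeneric.localDim_le_dim x).trans h0.le) (FibreGeneric.zero_le_localDim x)

/-- (1) ⇒ (4) for decent spaces -/
theorem dim_eq_zero_of_finite [Nonempty (Points X)] (hX : IsDecent X)
    (hfin : Finite (Points X)) : AlgSp.dim X = 0 := by
  refine dim_eq_zero_of_charts_discrete p hp hXa (fun U a ha u => ?_)
  obtain ⟨_, ⟨O₀, hO, rfl⟩, huO, -⟩ :=
    (U.left.isBasis_affineOpens).exists_subset_of_mem_open (Set.mem_univ u) isOpen_univ
  let O : U.left.Opens := O₀
  let V : Over (Spec (CommRingCat.of k)) := Over.mk (O.ι ≫ U.hom)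
  let j : V ⟶ U := Over.homMk O.ι rfl
  haveI : IsAffine V.left := hO
  have hj : Etale j.left := (inferInstance : Etale O.ι)
  have hψ : RepWith @Etale ((yon _).map j ≫ a) :=
    (RepWith @Etale).comp_mem _ _ ((repWith_yon_map_iff _ j).2 hj) ha
  haveI := chart_lft p hp _ hψ
  haveI : JacobsonSpace V.left := LocallyOfFiniteType.jacobsonSpace V.hom
  haveI : Finite V.left := by
    have huniv : (Set.univ : Set V.left) = ⋃ x : Points X, Points.ofPt ((yon _).map j ≫ a) ⁻¹' {x} := by
      ext v; simp
    have : (Set.univ : Set V.left).Finite := by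
      rw [huniv]
      exact Set.finite_iUnion (fun x => finite_fibre_of_isDecent hX x _ hψ)
    exact Set.finite_univ_iff.mp this
  haveI : DiscreteTopology V.left := inferInstance
  have h1 : IsOpen ({(⟨u, huO⟩ : V.left)} : Set V.left) := isOpen_discrete _
  have h2 := O.ι.isOpenEmbedding.isOpenMap _ h1
  have e : ({u} : Set U.left) = O.ι '' ({(⟨u, huO⟩ : V.left)} : Set V.left) := by
    ext y
    constructor
    · rintro rfl
      exact ⟨⟨y, huO⟩, rfl, rfl⟩
    · rintro ⟨w, hw, rfl⟩
      rw [hw]
      rfl
  rw [e]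
  exact h2

end Groth.Agent.Helper19.FldSp
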