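import Groth.Agent.Lib.Helper19.FldSp.FibreDim
import Groth.Agent.Lib.Helper15.AlgSpProper2
import Groth.Agent.S10308

/-!
# Upper semicontinuity of the fibre dimension of a proper morphism of algebraic spaces
-/

set_option autoImplicit false
set_option linter.style.haveILetI false
universe u
open CategoryTheory CategoryTheory.Limits AlgebraicGeometry MorphismProperty TopologicalSpace
open AlgSp Groth.Agent.Helper15 Groth.Agent.Helper16.AS

namespace Groth.Agent.Helper19.FldSp

variable {S : Scheme.{u}}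

theorem lt_natCast_succ_iff (x : WithBot ℕ∞) (n : ℕ) :
    x < ((n + 1 : ℕ) : WithBot ℕ∞) ↔ x ≤ (n : WithBot ℕ∞) := by
  induction x using WithBot.recBotCoe with
  | bot => simp
  | coe m =>
    have h1 : ((n + 1 : ℕ) : WithBot ℕ∞) = (((n + 1 : ℕ) : ℕ∞) : WithBot ℕ∞) := rfl
    have h2 : ((n : ℕ) : WithBot ℕ∞) = (((n : ℕ) : ℕ∞) : WithBot ℕ∞) := rfl
    rw [h1, h2, WithBot.coe_lt_coe, WithBot.coe_le_coe]
    induction m using ENat.recTopCoe with
    | top => simp
    | coe m => exact_mod_cast Nat.lt_succ_iff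

theorem lt_zero_iff_eq_bot (x : WithBot ℕ∞) : x < 0 ↔ x = ⊥ := by
  induction x using WithBot.recBotCoe with
  | bot => simp
  | coe m =>
    have h1 : (0 : WithBot ℕ∞) = ((0 : ℕ∞) : WithBot ℕ∞) := rfl
    rw [h1, WithBot.coe_lt_coe]
    simp

theorem lt_top_iff_exists_le_nat (x : WithBot ℕ∞) :
    x < ((⊤ : ℕ∞) : WithBot ℕ∞) ↔ ∃ n : ℕ, x ≤ (n : WithBot ℕ∞) := by
  induction x using WithBot.recBotCoe with
  | bot => simp
  | coe m =>
    rw [WithBot.coe_lt_coe]
    constructor
    · intro h
      obtain ⟨k, rfl⟩ := ENat.ne_top_iff_exists.mp h.ne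
      exact ⟨k, le_rfl⟩
    · rintro ⟨n, hn⟩
      have h2 : ((n : ℕ) : WithBot ℕ∞) = (((n : ℕ) : ℕ∞) : WithBot ℕ∞) := rfl
      rw [h2, WithBot.coe_le_coe] at hn
      exact lt_of_le_of_lt hn (ENat.coe_lt_top n)

/-- S10680 -/
theorem fibreDim_usc {X Y : AlgSp.Space S} (f : X ⟶ Y) (hf : IsProperMor f.hom)
    (d : WithBot ℕ∞) :
    IsOpen {y : Points Y.obj | ∀ (k : FieldPt Y.obj), Points.mk k = y →
      ∀ (Xk : Sp S) (fst : Xk ⟶ X.obj) (snd : Xk ⟶ (yon S).obj k.pt),
        IsPullback fst snd f.hom k.toHom → AlgSp.dim Xk < d} := by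
  have hlft : LocP @LocallyOfFiniteType f.hom := hf.2.1.1
  have hcl : IsClosedMap (Points.map f.hom) :=
    isClosedMor_of_isUnivClosedMor Y.property f.hom hf.2.2
  have hA : ∀ n : ℕ, IsOpen {y : Points Y.obj | ∀ x : Points X.obj, Points.map f.hom x = y →
      HasAtMor (fun _ _ h u => FlatMor.fibreDimAt h u ≤ (n : WithBot ℕ∞)) f.hom x} := by
    intro n
    have hT := Groth.Agent.S10308.result f hlft n
    have h1 := (hcl _ hT.isClosed_compl).isOpen_compl
    have e : {y : Points Y.obj | ∀ x : Points X.obj, Points.map f.hom x = y →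
        HasAtMor (fun _ _ h u => FlatMor.fibreDimAt h u ≤ (n : WithBot ℕ∞)) f.hom x} =
        (Points.map f.hom '' {x : Points X.obj |
          HasAtMor (fun _ _ h u => FlatMor.fibreDimAt h u ≤ (n : WithBot ℕ∞)) f.hom x}ᶜ)ᶜ := by
      ext y
      simp only [Set.mem_setOf_eq, Set.mem_compl_iff, Set.mem_image, not_exists, not_and]
      constructor
      · intro H x hx hxy
        exact hx (H x hxy)
      · intro H x hxy
        by_contra hx
        exact H x hx hxy
    rw [e]
    exact h1
  have hB : IsOpen {y : Points Y.obj | y ∉ Set.range (Points.map f.hom)} :=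
    hcl.isClosed_range.isOpen_compl
  have key : ∀ (y : Points Y.obj) (k : FieldPt Y.obj) (hk : Points.mk k = y) (Xk : Sp S)
      (fst : Xk ⟶ X.obj) (snd : Xk ⟶ (yon S).obj k.pt) (h : IsPullback fst snd f.hom k.toHom),
      (AlgSp.dim Xk = ⊥ ↔ y ∉ Set.range (Points.map f.hom)) ∧
      ∀ d : ℕ, (AlgSp.dim Xk ≤ d ↔
        ∀ x : Points X.obj, Points.map f.hom x = y →
          HasAtMor (fun _ _ h u => FlatMor.fibreDimAt h u ≤ (d : WithBot ℕ∞)) f.hom x) :=
    fun y k hk Xk fst snd h => dim_fibre X.property Y.property f.hom hlft y k hk Xk fst snd h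
  -- every point has a fibre
  have hex : ∀ y : Points Y.obj, ∃ (k : FieldPt Y.obj) (_ : Points.mk k = y) (Xk : Sp S)
      (fst : Xk ⟶ X.obj) (snd : Xk ⟶ (yon S).obj k.pt), IsPullback fst snd f.hom k.toHom := by
    intro y
    obtain ⟨k, hk⟩ := Points.mk_surjective y
    exact ⟨k, hk, _, _, _, IsPullback.of_hasPullback f.hom k.toHom⟩
  induction d using WithBot.recBotCoe with
  | bot =>
    convert isOpen_empty
    ext y
    simp only [Set.mem_setOf_eq, Set.mem_empty_iff_false, iff_false]
    intro H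
    obtain ⟨k, hk, Xk, fst, snd, h⟩ := hex y
    exact not_lt_bot (H k hk Xk fst snd h)
  | coe e =>
    induction e using ENat.recTopCoe with
    | top =>
      have e : {y : Points Y.obj | ∀ (k : FieldPt Y.obj), Points.mk k = y →
          ∀ (Xk : Sp S) (fst : Xk ⟶ X.obj) (snd : Xk ⟶ (yon S).obj k.pt),
          IsPullback fst snd f.hom k.toHom → AlgSp.dim Xk < ((⊤ : ℕ∞) : WithBot ℕ∞)} =
          ⋃ n : ℕ, {y : Points Y.obj | ∀ x : Points X.obj, Points.map f.hom x = y →
            HasAtMor (fun _ _ h u => FlatMor.fibreDimAt h u ≤ (n : WithBot ℕ∞)) f.hom x} := by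
        ext y
        simp only [Set.mem_setOf_eq, Set.mem_iUnion]
        constructor
        · intro H
          obtain ⟨k, hk, Xk, fst, snd, h⟩ := hex y
          obtain ⟨n, hn⟩ := (lt_top_iff_exists_le_nat _).1 (H k hk Xk fst snd h)
          exact ⟨n, ((key y k hk Xk fst snd h).2 n).1 hn⟩
        · rintro ⟨n, hn⟩ k hk Xk fst snd h
          exact (lt_top_iff_exists_le_nat _).2 ⟨n, ((key y k hk Xk fst snd h).2 n).2 hn⟩
      rw [e]
      exact isOpen_iUnion hA
    | coe n =>
      cases n with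
      | zero =>
        convert hB using 1
        ext y
        simp only [Set.mem_setOf_eq]
        constructor
        · intro H
          obtain ⟨k, hk, Xk, fst, snd, h⟩ := hex y
          have h1 := H k hk Xk fst snd h
          have h1' : AlgSp.dim Xk < 0 := h1
          exact (key y k hk Xk fst snd h).1.1 ((lt_zero_iff_eq_bot _).1 h1')
        · intro hy k hk Xk fst snd h
          have h1 : AlgSp.dim Xk < 0 :=
            (lt_zero_iff_eq_bot _).2 ((key y k hk Xk fst snd h).1.2 hy)
          exact h1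
      | succ m =>
        convert hA m using 1
        ext y
        simp only [Set.mem_setOf_eq]
        constructor
        · intro H
          obtain ⟨k, hk, Xk, fst, snd, h⟩ := hex y
          have h1 : AlgSp.dim Xk < ((m + 1 : ℕ) : WithBot ℕ∞) := H k hk Xk fst snd h
          exact ((key y k hk Xk fst snd h).2 m).1 ((lt_natCast_succ_iff _ m).1 h1)
        · intro hy k hk Xk fst snd h
          have h1 : AlgSp.dim Xk < ((m + 1 : ℕ) : WithBot ℕ∞) :=
            (lt_natCast_succ_iff _ m).2 (((key y k hk Xk fst snd h).2 m).2 hy)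
          exact h1

end Groth.Agent.Helper19.FldSp
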