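import Groth.Agent.Lib.Helper19.FldSp.Discrete
import Groth.Agent.Lib.Helper19.RelDim.BaseChange
import Groth.Agent.Lib.Helper15.QsDecent
import Groth.Agent.Lib.Helper15.AlgSpFibre
import Groth.Agent.Lib.Helper16.AlgSp.ProperSp
import Groth.Agent.Lib.Helper16.Sch.QFCodim
import Groth.Agent.S10650

/-!
# Proper morphisms with a finite fibre over a field point are finite near that point
-/

set_option autoImplicit false
set_option linter.style.haveILetI false
universe u
open CategoryTheory CategoryTheory.Limits AlgebraicGeometry MorphismProperty TopologicalSpace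
open AlgSp Groth.Agent.Helper15 Groth.Agent.Helper16.AS

namespace Groth.Agent.Helper19.FldSp

variable {S : Scheme.{u}}

/-- all points of étale charts of a decent sheaf with finitely many points, locally of finite type
over a field point, are open -/
theorem isOpen_singleton_chart_of_finite {K : Type u} [Field K]
    (str : Spec (CommRingCat.of K) ⟶ S) {P : Sp S} (q : P ⟶ (yon S).obj (Over.mk str))
    (hq : LocP @LocallyOfFiniteType q) (hP : IsDecent P) (hfin : Finite (Points P))
    {U : Over S} (a : (yon S).obj U ⟶ P) (ha : RepWith @Etale a) (u : U.left) :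
    IsOpen ({u} : Set U.left) := by
  obtain ⟨_, ⟨O₀, hO, rfl⟩, huO, -⟩ :=
    (U.left.isBasis_affineOpens).exists_subset_of_mem_open (Set.mem_univ u) isOpen_univ
  let O : U.left.Opens := O₀
  let V : Over S := Over.mk (O.ι ≫ U.hom)
  let j : V ⟶ U := Over.homMk O.ι rfl
  haveI : IsAffine V.left := hO
  have hj : Etale j.left := (inferInstance : Etale O.ι)
  have hψ : RepWith @Etale ((yon S).map j ≫ a) :=
    (RepWith @Etale).comp_mem _ _ ((repWith_yon_map_iff _ j).2 hj) ha
  let h' : V ⟶ Over.mk str := (yon S).preimage (((yon S).map j ≫ a) ≫ q)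
  have hlft : LocallyOfFiniteType h'.left :=
    hq _ (𝟙 _) h' hψ (repWith_id _ _) (by simp [h'])
  haveI : JacobsonSpace (Over.mk str).left :=
    inferInstanceAs (JacobsonSpace (Spec (CommRingCat.of K)))
  haveI : JacobsonSpace V.left := LocallyOfFiniteType.jacobsonSpace h'.left
  haveI : Finite V.left := by
    have huniv : (Set.univ : Set V.left) =
        ⋃ x : Points P, Points.ofPt ((yon S).map j ≫ a) ⁻¹' {x} := by
      ext v; simp
    have : (Set.univ : Set V.left).Finite := by
      rw [huniv]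
      exact Set.finite_iUnion (fun x => finite_fibre_of_isDecent hP x _ hψ)
    exact Set.finite_univ_iff.mp this
  haveI : DiscreteTopology V.left := inferInstance
  have h1 : IsOpen ({(⟨u, huO⟩ : V.left)} : Set V.left) := isOpen_discrete _
  have h2 := O.ι.isOpenEmbedding.isOpenMap _ h1
  have e : ({u} : Set U.left) = O.ι '' ({(⟨u, huO⟩ : V.left)} : Set V.left) := by
    ext y
    constructor
    · rintro rfl
      exact ⟨⟨y, huO⟩, rfl, rfl⟩
    · rintro ⟨w, hw, rfl⟩
      rw [hw]
      rfl
  rw [e]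
  exact h2

/-- a proper morphism with a finite fibre over a field point is quasi-finite at all points over
the image of that field point -/
theorem hasAtMor_qf_of_finite_fibre {X Y : Sp S} (hX : IsAlgSpace X) (hY : IsAlgSpace Y)
    (f : X ⟶ Y) (hf : IsProperMor f) (y : FieldPt Y) (Xy : Sp S) (fst : Xy ⟶ X)
    (snd : Xy ⟶ (yon S).obj y.pt) (hsq : IsPullback fst snd f y.toHom)
    (hfin : Finite (Points Xy)) (x : Points X) (hx : Points.map f x = Points.mk y) :
    HasAtMor (fun U _ h u => ∃ W : U.Opens, u ∈ W ∧ LocallyQuasiFinite (W.ι ≫ h) ∧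
      LocallyOfFiniteType (W.ι ≫ h)) f x := by
  have hT : IsAlgSpace ((yon S).obj y.pt) := IsAlgSpace.yon_obj _
  have hXy : IsAlgSpace Xy := isAlgSpace_of_isPullback hY.diag hX hT hsq
  have hsndP : IsProperMor snd := isProperMor_of_isPullback hX hY hT hsq hf
  have hlft : LocP @LocallyOfFiniteType snd := hsndP.2.1.1
  have hqs : IsQuasiSeparatedMor snd :=
    repWith_mono (fun _ _ g hg => by
      haveI : IsClosedImmersion g := hg
      exact (inferInstance : QuasiCompact g)) hsndP.1
  haveI : IsAffine y.pt.left := inferInstanceAs (IsAffine (Spec (CommRingCat.of y.K)))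
  have hdec : IsDecent Xy := QsDecent.isDecent_of_isQuasiSeparatedMor_affine hXy snd hqs
  let pt : y.pt.left := IsLocalRing.closedPoint y.K
  have heq : Points.map f x = Points.map y.toHom (Points.ofScheme y.pt pt) := by
    rw [hx, ← Points.ofPt_eq_map_ofScheme, Points.ofPt_toHom]
  obtain ⟨x', hx1, -⟩ := exists_point_of_isPullback hsq x _ heq
  -- a chart of the fibre through `x'`
  obtain ⟨U, a, hae, has⟩ := hXy.atlas
  obtain ⟨u, hu⟩ := surjective_ofPt a has x'
  let h : U ⟶ y.pt := (yon S).preimage (a ≫ snd)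
  have comm : a ≫ snd = (yon S).map h ≫ 𝟙 _ := by simp [h]
  haveI : LocallyOfFiniteType h.left := hlft a (𝟙 _) h hae (repWith_id _ _) comm
  have hopen : IsOpen ({u} : Set U.left) :=
    isOpen_singleton_chart_of_finite y.str snd hlft hdec hfin a hae u
  have hqf : h.left.QuasiFiniteAt u := by
    rw [Groth.Agent.Helper16.QFCodim.quasiFiniteAt_iff_isOpen_singleton]
    have : ({⟨u, rfl⟩} : Set ↥(h.left ⁻¹' {h.left u})) = Subtype.val ⁻¹' ({u} : Set U.left) := by
      ext z
      simp only [Set.mem_singleton_iff, Set.mem_preimage]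
      exact ⟨fun hz => by rw [hz], fun hz => Subtype.ext hz⟩
    rw [this]
    exact hopen.preimage continuous_subtype_val
  have hd0 : FlatMor.fibreDimAt h.left u = 0 :=
    (FibDim.fibreDimAt_eq_zero_iff_quasiFiniteAt h.left u).2 hqf
  -- a chart of `f` through `x`
  have hflft : LocP @LocallyOfFiniteType f := hf.2.1.1
  obtain ⟨U₁, V₁, a₁, b₁, h₁, u₁, ha₁, hb₁, comm₁, hxu₁, hlft₁⟩ :=
    Trdeg.exists_chart_at hX hY f hflft x
  haveI : LocallyOfFiniteType h₁.left := hlft₁
  have hfd : HasAtMor (fun _ _ h u => FlatMor.fibreDimAt h u = FlatMor.fibreDimAt h₁.left u₁) f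
      (Points.map fst x') := by
    rw [hx1]
    exact ⟨U₁, V₁, a₁, b₁, h₁, u₁, ha₁, hb₁, comm₁, hxu₁, rfl⟩
  have hsd := Groth.Agent.Helper19.RelDim.hasAtMor_baseChange hX hY hT f y.toHom fst snd hsq
    hflft x' (fun t => t = FlatMor.fibreDimAt h₁.left u₁) hfd
  rw [← hu] at hsd
  have hd1 := (Groth.Agent.Helper19.RelDim.hasAtMor_fibreDimAt_iff snd hlft
    (fun t => t = FlatMor.fibreDimAt h₁.left u₁) a (𝟙 _) h hae (repWith_id _ _) comm u).1 hsd
  have hd1' : FlatMor.fibreDimAt h₁.left u₁ = 0 := by rw [← hd1]; exact hd0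
  have hqf₁ : h₁.left.QuasiFiniteAt u₁ :=
    (FibDim.fibreDimAt_eq_zero_iff_quasiFiniteAt h₁.left u₁).1 hd1'
  obtain ⟨W, huW, hW1, hW2⟩ :=
    (Groth.Agent.Helper16.QFCodim.quasiFiniteAt_iff_exists_opens h₁.left u₁).1 hqf₁
  exact ⟨U₁, V₁, a₁, b₁, h₁, u₁, ha₁, hb₁, comm₁, hxu₁, W, huW, hW1, hW2⟩

end Groth.Agent.Helper19.FldSp
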