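import Groth.Agent.Lib.Helper19.LocDim.Sch
import Groth.Agent.Lib.Helper14.DimClosure
import Groth.Agent.Lib.Helper14.IsolatedPt
import Groth.Agent.Lib.Helper15.QFDiscrete
import Groth.Agent.Lib.Helper15.TrdegQF
import Groth.Agent.Lib.Helper15.FibDim0
import Groth.Agent.Lib.Helper15.DecentDim
import Groth.Agent.Lib.Helper15.AlgSpTop

/-!
# Points of algebraic spaces locally of finite type over a field
-/

set_option autoImplicit false
set_option linter.style.haveILetI false
universe u
open CategoryTheory CategoryTheory.Limits AlgebraicGeometry MorphismProperty TopologicalSpace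
open AlgSp Groth.Agent.Helper15

namespace Groth.Agent.Helper19.FldSp

open Groth.Agent.Helper14

section scheme

variable {k : Type u} [Field k] {U : Scheme.{u}} (g : U ⟶ Spec (CommRingCat.of k))

/-- in a scheme locally of finite type over a field, a specialization between points with the
same transcendence degree is trivial -/
theorem eq_of_specializes_of_resTrdeg_eq [LocallyOfFiniteType g] {u u' : U} (hs : u' ⤳ u)
    (ht : Dual3.resTrdeg g u' = Dual3.resTrdeg g u) : u' = u := by
  by_contra hne
  have h1 := (DimClosure.isDimFun_trdegFun k g u' u hs hne).1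
  have h2 : DimClosure.trdegFun g u' = DimClosure.trdegFun g u :=
    congrArg (fun c => (Cardinal.toNat c : ℤ)) ht
  rw [h2] at h1
  exact lt_irrefl _ h1

/-- a point of transcendence degree zero is closed -/
theorem isClosed_singleton_of_resTrdeg_eq_zero [LocallyOfFiniteType g] (u : U)
    (h0 : Dual3.resTrdeg g u = 0) : IsClosed ({u} : Set U) := by
  rw [← closure_eq_iff_isClosed]
  refine Set.Subset.antisymm (fun z hz => ?_) subset_closure
  have hs : u ⤳ z := specializes_iff_mem_closure.mpr hz
  by_contra hne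
  have hne' : u ≠ z := fun h => hne (h ▸ rfl)
  have h1 := (DimClosure.isDimFun_trdegFun k g u z hs hne').1
  have h2 : DimClosure.trdegFun g u = 0 := by
    have : DimClosure.trdegFun g u = ((Cardinal.toNat (0 : Cardinal.{u}) : ℕ) : ℤ) :=
      congrArg (fun c => (Cardinal.toNat c : ℤ)) h0
    simpa using this
  rw [h2] at h1
  exact absurd (DimClosure.trdegFun_nonneg g z) (not_le.mpr h1)

/-- in a locally Noetherian scheme a set of points which are all open and closed is closed -/
theorem isClosed_of_forall_isOpen_isClosed [IsLocallyNoetherian U] (W : Set U)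
    (hW : ∀ w ∈ W, IsOpen ({w} : Set U) ∧ IsClosed ({w} : Set U)) : IsClosed W := by
  rw [← isOpen_compl_iff, isOpen_iff_forall_mem_open]
  intro z hz
  obtain ⟨O, hO, hzO, -⟩ := TopologicalSpace.Opens.isBasis_iff_nbhd.mp U.isBasis_affineOpens
    (show z ∈ (⊤ : U.Opens) from trivial)
  haveI : IsNoetherianRing Γ(U, O) := IsLocallyNoetherian.component_noetherian ⟨O, hO⟩
  have hcomp : IsCompact ((O : Set U) ∩ W) :=
    (noetherianSpace_set_iff (O : Set U)).1 (noetherianSpace_of_isAffineOpen O hO) _
      Set.inter_subset_left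
  have hdisc : IsDiscrete ((O : Set U) ∩ W) := by
    rw [isDiscrete_iff_forall_mem_exists_isOpen]
    intro y hy
    refine ⟨{y}, (hW y hy.2).1, ?_⟩
    ext t
    simp only [Set.mem_inter_iff, Set.mem_singleton_iff]
    constructor
    · rintro ⟨rfl, -⟩; rfl
    · rintro rfl; exact ⟨rfl, hy⟩
  have hfin : ((O : Set U) ∩ W).Finite := hcomp.finite hdisc
  have hcl : IsClosed ((O : Set U) ∩ W) := by
    have e : ((O : Set U) ∩ W) = ⋃ w ∈ ((O : Set U) ∩ W), {w} := by
      ext t; simp
    rw [e]
    exact hfin.isClosed_biUnion (fun w hw => (hW w hw.2).2)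
  refine ⟨(O : Set U) ∩ ((O : Set U) ∩ W)ᶜ, ?_, O.2.inter hcl.isOpen_compl, ⟨hzO, ?_⟩⟩
  · rintro t ⟨htO, htn⟩ htW
    exact htn ⟨htO, htW⟩
  · rintro ⟨-, hzW⟩
    exact hz hzW

end scheme

section space

variable {k : Type u} [Field k] {X : Sp (Spec (CommRingCat.of k))}
  (p : X ⟶ (yon (Spec (CommRingCat.of k))).obj (Over.mk (𝟙 _)))

/-- the structure morphism of a chart, as a morphism to the terminal object -/
noncomputable def toBase (U : Over (Spec (CommRingCat.of k))) :
    U ⟶ Over.mk (𝟙 (Spec (CommRingCat.of k))) := Over.homMk U.hom (by simp)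

theorem chart_comm {U : Over (Spec (CommRingCat.of k))}
    (a : (yon (Spec (CommRingCat.of k))).obj U ⟶ X) :
    a ≫ p = (yon (Spec (CommRingCat.of k))).map (toBase U) ≫ 𝟙 _ := by
  obtain ⟨h', hh'⟩ := (yon (Spec (CommRingCat.of k))).map_surjective (a ≫ p)
  have : h' = toBase U := by
    apply Over.OverMorphism.ext
    have := Over.w h'
    simpa [toBase] using this
  rw [← hh', this, Category.comp_id]

include p

variable (hp : LocP @LocallyOfFiniteType p)
include hp

/-- étale charts of `X` are locally of finite type over `k` -/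
theorem chart_lft {U : Over (Spec (CommRingCat.of k))}
    (a : (yon (Spec (CommRingCat.of k))).obj U ⟶ X) (ha : RepWith @Etale a) :
    LocallyOfFiniteType U.hom :=
  hp a (𝟙 _) (toBase U) ha (repWith_id _ _) (chart_comm p a)

omit hp in
/-- the transcendence degree over `k` of a point of `X` is well defined -/
theorem resTrdeg_eq_of_ofPt_eq {U U' : Over (Spec (CommRingCat.of k))}
    (a : (yon (Spec (CommRingCat.of k))).obj U ⟶ X) (ha : RepWith @Etale a)
    (a' : (yon (Spec (CommRingCat.of k))).obj U' ⟶ X) (ha' : RepWith @Etale a')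
    (u : U.left) (u' : U'.left) (h : Points.ofPt a u = Points.ofPt a' u') :
    Dual3.resTrdeg U.hom u = Dual3.resTrdeg U'.hom u' :=
  Trdeg.hasAtMor_resTrdeg_unique p (Points.ofPt a u) _ _
    ⟨U, _, a, 𝟙 _, toBase U, u, ha, repWith_id _ _, chart_comm p a, rfl, rfl⟩
    ⟨U', _, a', 𝟙 _, toBase U', u', ha', repWith_id _ _, chart_comm p a', h.symm, rfl⟩

/-- no nontrivial specializations in the fibres of `|U| → |X|` -/
theorem eq_of_specializes_of_ofPt_eq {U : Over (Spec (CommRingCat.of k))}
    (a : (yon (Spec (CommRingCat.of k))).obj U ⟶ X) (ha : RepWith @Etale a)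
    (u u' : U.left) (he : Points.ofPt a u' = Points.ofPt a u) (hs : u' ⤳ u) : u' = u := by
  haveI := chart_lft p hp a ha
  exact eq_of_specializes_of_resTrdeg_eq U.hom hs (resTrdeg_eq_of_ofPt_eq p a ha a ha u' u he)

/-- over an open point of `|X|`, all points of a chart are open and closed -/
theorem isOpen_isClosed_chart_of_isOpen (x : Points X) (hx : IsOpen ({x} : Set (Points X)))
    {U : Over (Spec (CommRingCat.of k))}
    (a : (yon (Spec (CommRingCat.of k))).obj U ⟶ X) (ha : RepWith @Etale a) (u : U.left)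
    (hu : Points.ofPt a u = x) :
    IsOpen ({u} : Set U.left) ∧ IsClosed ({u} : Set U.left) := by
  haveI := chart_lft p hp a ha
  haveI : IsLocallyNoetherian U.left := LocallyOfFiniteType.isLocallyNoetherian U.hom
  let N : U.left.Opens := ⟨Points.ofPt a ⁻¹' {x}, hx.preimage (Points.continuous_ofPt a)⟩
  have huN : u ∈ N := hu
  obtain ⟨n₀, hn₀N, -, h0⟩ := Groth.Agent.Helper19.LocDim.exists_trdeg_zero U.hom N u huN
  have h0' : Dual3.resTrdeg U.hom n₀ = 0 := h0
  have hcl : ∀ n ∈ N, IsClosed ({n} : Set U.left) := by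
    intro n hn
    refine isClosed_singleton_of_resTrdeg_eq_zero U.hom n ?_
    rw [resTrdeg_eq_of_ofPt_eq p a ha a ha n n₀ ((show Points.ofPt a n = x from hn).trans
      (show Points.ofPt a n₀ = x from hn₀N).symm)]
    exact h0'
  exact ⟨QFDiscrete.isOpen_singleton_of_forall_isClosed N hcl u huN, hcl u huN⟩

variable (hXa : IsAlgSpace X)
include hXa

/-- (3) ⇔ (2) -/
theorem isOpen_singleton_iff_closed_maximal (x : Points X) :
    IsOpen ({x} : Set (Points X)) ↔
      (IsClosed ({x} : Set (Points X)) ∧ ∀ x' : Points X, x' ⤳ x → x' = x) := by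
  obtain ⟨U, a, hae, has⟩ := hXa.atlas
  haveI := chart_lft p hp a hae
  haveI : IsLocallyNoetherian U.left := LocallyOfFiniteType.isLocallyNoetherian U.hom
  haveI : JacobsonSpace U.left := LocallyOfFiniteType.jacobsonSpace U.hom
  have hquot : Topology.IsQuotientMap (Points.ofPt a) :=
    (isOpenMap_ofPt_of_etale a hae).isQuotientMap (Points.continuous_ofPt a)
      (surjective_ofPt a has)
  constructor
  · intro hx
    refine ⟨?_, fun x' hx' => hx'.mem_open hx rfl⟩
    rw [← hquot.isClosed_preimage]
    exact isClosed_of_forall_isOpen_isClosed _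
      (fun w hw => isOpen_isClosed_chart_of_isOpen p hp x hx a hae w hw)
  · rintro ⟨hcl, hmax⟩
    have hWcl : IsClosed (Points.ofPt a ⁻¹' {x}) := hcl.preimage (Points.continuous_ofPt a)
    obtain ⟨u, hu⟩ := surjective_ofPt a has x
    obtain ⟨u₀, hs, -, h0⟩ := DimClosure.exists_specializes_trdeg_eq_zero U.hom u
    have hu₀ : Points.ofPt a u₀ = x := hs.mem_closed hWcl hu
    have hcl₀ : IsClosed ({u₀} : Set U.left) :=
      isClosed_singleton_of_resTrdeg_eq_zero U.hom u₀ h0
    have hg : ∀ z : U.left, z ⤳ u₀ → z = u₀ := by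
      intro z hz
      have h1 : Points.ofPt a z ⤳ Points.ofPt a u₀ := hz.map (Points.continuous_ofPt a)
      rw [hu₀] at h1
      have h2 := hmax _ h1
      exact eq_of_specializes_of_ofPt_eq p hp a hae u₀ z (h2.trans hu₀.symm) hz
    have hopen := isOpen_singleton_of_isClosed_of_generization u₀ hcl₀ hg
    have := isOpenMap_ofPt_of_etale a hae _ hopen
    rwa [Set.image_singleton, hu₀] at this

/-- (3) ⇔ (4) -/
theorem isOpen_singleton_iff_hasAt_localDim (x : Points X) :
    IsOpen ({x} : Set (Points X)) ↔ HasAt (fun U u => FlatMor.localDim ↥U u = 0) X x := by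
  constructor
  · intro hx
    obtain ⟨U, a, hae, has⟩ := hXa.atlas
    obtain ⟨u, hu⟩ := surjective_ofPt a has x
    exact ⟨U, a, u, hae, hu, FibDim.localDim_eq_zero_of_isOpen_singleton u
      (isOpen_isClosed_chart_of_isOpen p hp x hx a hae u hu).1⟩
  · rintro ⟨U', a', u', ha', hu', hd⟩
    haveI := chart_lft p hp a' ha'
    haveI : IsLocallyNoetherian U'.left := LocallyOfFiniteType.isLocallyNoetherian U'.hom
    have hopen := FibDim.isOpen_singleton_of_localDim_eq_zero u' hd
    have := isOpenMap_ofPt_of_etale a' ha' _ hopen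
    rwa [Set.image_singleton, hu'] at this

/-- (1) ⇔ (3) for decent spaces -/
theorem localDim_points_eq_zero_iff (hX : IsDecent X) (x : Points X) :
    FlatMor.localDim (Points X) x = 0 ↔ IsOpen ({x} : Set (Points X)) := by
  obtain ⟨U, a, hae, has⟩ := hXa.atlas
  obtain ⟨u, hu⟩ := surjective_ofPt a has x
  have e := DecentDim.localDim_chart_eq hXa hX a hae u
  rw [hu] at e
  rw [← e, isOpen_singleton_iff_hasAt_localDim p hp hXa x]
  constructor
  · intro h
    exact ⟨U, a, u, hae, hu, h⟩
  · intro h
    exact hasAt_forall_chart (etInv_localDim 0) x h U a u hae hu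

end space

end Groth.Agent.Helper19.FldSp
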